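import Cfsg.Agent.Helper28.M11B.Data
set_option autoImplicit false
set_option maxRecDepth 1000000
namespace Cfsg.Agent.Helper28.M11B
open Cfsg.Agent.Helper28
theorem perm_ok_2 : permRange tabs.word letTr.get 4 15 11 2 9 = true := by decide +kernel
end Cfsg.Agent.Helper28.M11B
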